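import Groth.Agent.Pi1C.LefReduce
import Groth.Agent.Pi1C.LefFinal
import Groth.Agent.Pi1C.ZeroScheme
import Groth.Agent.CycA.IntLocal
import Groth.Agent.CycA.SetupField
import Groth.Agent.CycB.LocQuot
import Groth.Agent.CycB.StalkLen
import Groth.Agent.CalgA.SerreLocal
import Groth.Agent.Divis.CartierBasic
import Groth.Agent.AbVar.K513.PowDiv
import Groth.Agent.Ega4A.CatenaryDim
import Groth.Agent.S12446
import Groth.Agent.S12459

/-!
# Opens containing the regular points of an ample divisor are big
-/

set_option autoImplicit false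
universe u

open CategoryTheory CategoryTheory.Limits AlgebraicGeometry TopologicalSpace

namespace K156.BigOpen

open Groth.Agent Groth.Agent.CycB.LocQuot Groth.Agent.Divis.CartierBasic

/-- Krull's principal ideal theorem relative to a prime of height at most one. -/
theorem ringKrullDim_le_two {A : Type u} [CommRing A] [IsDomain A] [IsNoetherianRing A] [IsLocalRing A]
    (hc : CAlg.IsCatenary A) (p : Ideal A) [p.IsPrime] (hp : (p.height : WithBot ℕ∞) ≤ 1) (t : A)
    (ht : IsLocalRing.maximalIdeal A ∈ (p ⊔ Ideal.span {t}).minimalPrimes) : ringKrullDim A ≤ 2 := by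
  have h1 := Ega4A.CatenaryDim.height_add_ringKrullDim_quotient_of_isDomain hc p
  have hloc : IsLocalRing (A ⧸ p) := IsLocalRing.of_surjective' _ Ideal.Quotient.mk_surjective
  have hmax : (IsLocalRing.maximalIdeal (A ⧸ p)).comap (Ideal.Quotient.mk p) = IsLocalRing.maximalIdeal A := by
    have : ((IsLocalRing.maximalIdeal (A ⧸ p)).comap (Ideal.Quotient.mk p)).IsMaximal :=
      Ideal.comap_isMaximal_of_surjective _ Ideal.Quotient.mk_surjective
    exact IsLocalRing.eq_maximalIdeal this
  have h2 : IsLocalRing.maximalIdeal (A ⧸ p) ∈ (Ideal.span {Ideal.Quotient.mk p t}).minimalPrimes := by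
    refine ⟨⟨inferInstance, ?_⟩, fun q hq hqm => ?_⟩
    · rw [Ideal.span_singleton_le_iff_mem, ← Ideal.mem_comap, hmax]
      exact ht.1.2 (Ideal.mem_sup_right (Ideal.mem_span_singleton_self t))
    · have hqp := hq.1
      have h3 : IsLocalRing.maximalIdeal A ≤ q.comap (Ideal.Quotient.mk p) := by
        refine ht.2 ⟨Ideal.comap_isPrime _ _, sup_le ?_ ?_⟩ ?_
        · intro a ha
          rw [Ideal.mem_comap, Ideal.Quotient.eq_zero_iff_mem.2 ha]
          exact q.zero_mem
        · rw [Ideal.span_singleton_le_iff_mem, Ideal.mem_comap]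
          exact hq.2 (Ideal.mem_span_singleton_self _)
        · rw [← hmax]
          exact Ideal.comap_mono hqm
      rw [← Ideal.map_comap_of_surjective _ Ideal.Quotient.mk_surjective (IsLocalRing.maximalIdeal (A ⧸ p)), hmax]
      exact Ideal.map_le_iff_le_comap.2 h3
  have h4 : (IsLocalRing.maximalIdeal (A ⧸ p)).height ≤ 1 :=
    Ideal.height_le_one_of_isPrincipal_of_mem_minimalPrimes _ _ h2
  have h5 : ringKrullDim (A ⧸ p) ≤ 1 := by
    rw [← IsLocalRing.maximalIdeal_height_eq_ringKrullDim]
    exact_mod_cast h4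
  rw [← h1]
  refine (add_le_add hp h5).trans (le_of_eq ?_)
  norm_num

theorem isCatenary_stalk (k : Type u) [Field k] {X : Scheme.{u}} (f : X ⟶ Spec (CommRingCat.of k))
    [LocallyOfFiniteType f] (x : X) : CAlg.IsCatenary (X.presheaf.stalk x) :=
  (S12446.result X).1 ((S12459.result (Spec (CommRingCat.of k))).2
    (fun s => CycA.SetupField.isUniversallyCatenary_stalk_Spec k s) X f inferInstance) x

/-- A generic point of the intersection of a closed set with a locally principal closed set. -/
theorem exists_generic {X : Scheme.{u}} (J : X.IdealSheafData)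
    {x y : X} (h : x ⤳ y) (hy : y ∈ J.support) :
    ∃ w : X, x ⤳ w ∧ w ∈ J.support ∧ ∀ w' : X, x ⤳ w' → w' ⤳ w → w' ∈ J.support → w' = w := by
  have h1 : (primeOf h).asIdeal ⊔ stalkIdeal J y ≤ IsLocalRing.maximalIdeal (X.presheaf.stalk y) :=
    sup_le (IsLocalRing.le_maximalIdeal (primeOf h).2.ne_top) ((mem_support_iff_stalkIdeal_le J y).1 hy)
  obtain ⟨q, hq, hqm⟩ := Ideal.exists_minimalPrimes_le h1
  have hqp := hq.1.1
  let Q : PrimeSpectrum (X.presheaf.stalk y) := ⟨q, hqp⟩
  refine ⟨X.fromSpecStalk y Q, ?_, (fromSpecStalk_mem_support_iff J y Q).2 (le_sup_right.trans hq.1.2), ?_⟩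
  · rw [← primeOf_le_iff h (fromSpecStalk_specializes Q), primeOf_fromSpecStalk]
    exact (le_sup_left.trans hq.1.2 : (primeOf h).asIdeal ≤ q)
  · intro w' h2 h3 h4
    have h5 : w' ⤳ y := h3.trans (fromSpecStalk_specializes Q)
    have h6 : primeOf h5 ≤ Q := by
      have := (primeOf_le_iff h5 (fromSpecStalk_specializes Q)).2 h3
      rwa [primeOf_fromSpecStalk] at this
    have h7 : Q ≤ primeOf h5 := by
      refine hq.2 ⟨(primeOf h5).2, sup_le ?_ ?_⟩ h6
      · exact (primeOf_le_iff h h5).2 h2
      · rw [← fromSpecStalk_mem_support_iff, fromSpecStalk_primeOf]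
        exact h4
    have h8 : primeOf h5 = Q := le_antisymm h6 h7
    rw [← fromSpecStalk_primeOf h5, h8]

/-- The height of the prime of a generization. -/
theorem height_primeOf {X : Scheme.{u}} {x ξ : X} (h : ξ ⤳ x) :
    ringKrullDim (X.presheaf.stalk ξ) = (primeOf h).asIdeal.height := by
  let _ := CycB.StalkLoc.specAlg h
  have := CycB.StalkLen.isLocalization_primeOf h
  exact IsLocalization.AtPrime.ringKrullDim_eq_height (primeOf h).asIdeal (X.presheaf.stalk ξ)

theorem exists_stalkIdeal_eq {X : Scheme.{u}} {L : X.Modules} (hL : PicF.IsInvertible L)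
    (s : Coh.structureModule X ⟶ L) (x : X) :
    ∃ t : X.presheaf.stalk x, stalkIdeal (PicF2.zeroScheme L s) x = Ideal.span {t} := by
  obtain ⟨U, hU, hxU, -, e, he⟩ := Pi1C.ZeroScheme.exists_affine_isGen hL ⊤ x trivial
  obtain ⟨c, hc⟩ := he.exists_eq (Groth.Agent.Fdesc.LocGen.sec s U)
  have h1 := Pi1C.ZeroScheme.ideal_eq_span s hL ⟨U, hU⟩ he hc
  refine ⟨X.presheaf.germ U x hxU c, ?_⟩
  rw [stalkIdeal_eq (PicF2.zeroScheme L s) ⟨U, hU⟩ hxU, h1, Ideal.map_span, Set.image_singleton]

/-- An open subset containing the regular points of an ample divisor which contains no component of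
the singular locus has a complement of codimension at least two. -/
theorem two_le_dim (k : Type u) [Field k] (X : Scheme.{u}) (f : X ⟶ Spec (CommRingCat.of k)) [IsProper f]
    [IsIntegral X] (hXn : Pi1.IsNormalScheme X)
    (hcl : IsClosed {x : X | ¬ IsRegularLocalRing (X.presheaf.stalk x)})
    (d : ℕ) (hd : topologicalKrullDim X = d) (h3 : 2 ≤ d)
    (L : X.Modules) (hL : CohB1.IsAmple L) (s : Coh.structureModule X ⟶ L)
    (hYsing : ∀ Z ∈ irreducibleComponents {x : X // ¬ IsRegularLocalRing (X.presheaf.stalk x)},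
      ¬ (Subtype.val '' Z ⊆ ((PicF2.zeroScheme L s).support : Set X)))
    (U : X.Opens)
    (hU : ∀ x : X, x ∈ (PicF2.zeroScheme L s).support → IsRegularLocalRing (X.presheaf.stalk x) → x ∈ U)
    (x : X) (hx : x ∉ U) : (2 : WithBot ℕ∞) ≤ ringKrullDim (X.presheaf.stalk x) := by
  have hXN : IsLocallyNoetherian X := LocallyOfFiniteType.isLocallyNoetherian f
  have hXc : CompactSpace X := QuasiCompact.compactSpace_of_compactSpace f
  have hXNN : IsNoetherian X := {}
  obtain ⟨a, t, n, ha, -, ht, hn, han⟩ := CycA.IntLocal.exists_dims f x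
  have hnd : n = d := by
    have := hn.symm.trans hd
    exact_mod_cast this
  rw [ha]
  by_contra hlt
  have ha1 : a ≤ 1 := by
    by_contra h
    exact hlt (by exact_mod_cast (by omega : 2 ≤ a))
  -- the closure of `x` meets the divisor
  obtain ⟨y, hxy, hy⟩ : ∃ y : X, x ⤳ y ∧ y ∈ (PicF2.zeroScheme L s).support := by
    by_contra hno
    push Not at hno
    have h1 : IsClosed ({x} : Set X) := by
      refine Pi1C.LefReduce.isClosed_singleton_of_affine f (CohB1.genLocus L s)
        (Pi1C.LefFinal.isAffineOpen_genLocus f hL s) (closure {x}) isClosed_closure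
        (fun y hy => ?_) x (subset_closure rfl)
      have h2 := hno y (specializes_iff_mem_closure.2 hy)
      have h4 : y ∉ ((PicF2.zeroScheme L s).support : Set X) := h2
      rw [Pi1C.LefFinal.support_eq hL.1 s] at h4
      simpa using h4
    rw [h1.closure_eq] at ht
    have h2 : topologicalKrullDim ({x} : Set X) ≤ 0 := topologicalKrullDim_zero_of_discreteTopology ({x} : Set X)
    rw [ht] at h2
    have h5 : t ≤ 0 := by exact_mod_cast h2
    omega
  obtain ⟨w, hxw, hw, hmin⟩ := exists_generic (PicF2.zeroScheme L s) hxy hy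
  have hwU : w ∉ U := fun h => hx (hxw.mem_open U.isOpen h)
  have hwreg : ¬ IsRegularLocalRing (X.presheaf.stalk w) := fun h => hwU (hU w hw h)
  obtain ⟨c, hc⟩ := exists_stalkIdeal_eq hL.1 s w
  have hdim : ringKrullDim (X.presheaf.stalk w) ≤ 2 := by
    refine ringKrullDim_le_two (isCatenary_stalk k f w) (primeOf hxw).asIdeal ?_ c ?_
    · rw [← height_primeOf hxw, ha]
      exact_mod_cast ha1
    · rw [← hc]
      refine ⟨⟨inferInstance, sup_le (IsLocalRing.le_maximalIdeal (primeOf hxw).2.ne_top)
        ((mem_support_iff_stalkIdeal_le _ w).1 hw)⟩, fun q hq hqm => ?_⟩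
      have hqp := hq.1
      let Q : PrimeSpectrum (X.presheaf.stalk w) := ⟨q, hqp⟩
      have h4 : X.fromSpecStalk w Q = w := by
        refine hmin _ ?_ (fromSpecStalk_specializes Q)
          ((fromSpecStalk_mem_support_iff _ w Q).2 (le_sup_right.trans hq.2))
        rw [← primeOf_le_iff hxw (fromSpecStalk_specializes Q), primeOf_fromSpecStalk]
        exact (le_sup_left.trans hq.2 : (primeOf hxw).asIdeal ≤ q)
      have h5 : Q = IsLocalRing.closedPoint (X.presheaf.stalk w) := by
        rw [← primeOf_fromSpecStalk Q, ← primeOf_refl w, primeOf_inj]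
        exact h4
      exact (congrArg PrimeSpectrum.asIdeal h5).ge
  -- `w` is a maximal point of the singular locus
  have hmax : ∀ w' : X, w' ⤳ w → ¬ IsRegularLocalRing (X.presheaf.stalk w') → w' = w := by
    intro w' h1 h2
    by_contra hne
    apply h2
    obtain ⟨h5, h6⟩ := hXn w'
    refine CalgA.SerreLocal.isRegularLocalRing_of_isIntegrallyClosed ?_
    rw [height_primeOf h1]
    have h7 : (primeOf h1).asIdeal < IsLocalRing.maximalIdeal (X.presheaf.stalk w) := by
      refine lt_of_le_of_ne (IsLocalRing.le_maximalIdeal (primeOf h1).2.ne_top) fun h => hne ?_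
      have h8 : primeOf h1 = primeOf (specializes_refl w) := by
        rw [primeOf_refl]
        exact PrimeSpectrum.ext h
      exact (primeOf_inj h1 _).1 h8
    have h9 : (primeOf h1).asIdeal.height < 2 := by
      have h10 : (IsLocalRing.maximalIdeal (X.presheaf.stalk w)).height ≤ 2 := by
        have := hdim
        rw [← IsLocalRing.maximalIdeal_height_eq_ringKrullDim] at this
        exact WithBot.coe_le_coe.1 this
      exact lt_of_lt_of_le (Ideal.height_strict_mono_of_isPrime h7) h10
    have h11 : (primeOf h1).asIdeal.height ≤ 1 := by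
      have h12 : (primeOf h1).asIdeal.height < 1 + 1 := by
        rw [one_add_one_eq_two]
        exact h9
      exact (ENat.lt_add_one_iff ENat.one_ne_top).1 h12
    exact_mod_cast h11
  -- the component
  let T := {x : X // ¬ IsRegularLocalRing (X.presheaf.stalk x)}
  let wT : T := ⟨w, hwreg⟩
  refine hYsing (irreducibleComponent wT) (irreducibleComponent_mem_irreducibleComponents wT) ?_
  have hZ : IsIrreducible (closure (Subtype.val '' irreducibleComponent wT : Set X)) :=
    (isIrreducible_irreducibleComponent.image _ continuous_subtype_val.continuousOn).closure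
  obtain ⟨g, hg⟩ := QuasiSober.sober hZ isClosed_closure
  have hgT : ¬ IsRegularLocalRing (X.presheaf.stalk g) := by
    have h1 : g ∈ closure (Subtype.val '' irreducibleComponent wT : Set X) := hg.mem
    exact hcl.closure_subset_iff.2 (by rintro _ ⟨z, -, rfl⟩; exact z.2) h1
  have hgw : g ⤳ w := by
    rw [specializes_iff_mem_closure, hg.def]
    exact subset_closure ⟨wT, mem_irreducibleComponent, rfl⟩
  have hgw' : g = w := hmax g hgw hgT
  rintro _ ⟨z, hz, rfl⟩
  have h1 : w ⤳ (z : X) := by
    rw [← hgw', specializes_iff_mem_closure, hg.def]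
    exact subset_closure ⟨z, hz, rfl⟩
  exact h1.mem_closed (PicF2.zeroScheme L s).support.isClosed hw

end K156.BigOpen
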