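import Groth.Agent.LefX.K106.HomLim
import Groth.Agent.Dcoh.Restrict

/-!
# Maps into the structure sheaf from sections of the completion of the dual

For `D` finite locally free with dual `E`: if `Γ(U, E) = lim Γ(U_n, E|U_n)` then
`Hom(D, O_U) = lim Hom(D, O_U/𝓙^{n+1})`.
-/

set_option autoImplicit false
universe u

open CategoryTheory CategoryTheory.Limits AlgebraicGeometry Opposite TopologicalSpace MonoidalCategory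

namespace K156.SecHom

open scoped Groth.Agent.Dcoh.MonCat
open Groth.Agent Groth.Agent.FormalB.KQuot Groth.Agent.Ega2.Tens Groth.Agent.Fdesc.LocGen

section Cat

universe v w

variable {C : Type w} [Category.{v} C] [MonoidalCategory C] {E E' : C} [ExactPairing E' E]

/-- Abstract form. -/
theorem cat_dual (Q : ℕ → C) (ρ : ∀ n, 𝟙_ C ⟶ Q n) (q : ∀ n, Q (n + 1) ⟶ Q n) (hq : ∀ n, ρ (n + 1) ≫ q n = ρ n)
    (G : ℕ → C) (g : ∀ n, G (n + 1) ⟶ G n) (p : ∀ n, E ⟶ G n) (hp : ∀ n, p (n + 1) ≫ g n = p n)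
    (hepi : ∀ n, Epi (p n)) (l : E ≅ 𝟙_ C ⊗ E) (r : ∀ n, Q n ⊗ E ≅ G n)
    (hr : ∀ n, l.hom ≫ (ρ n) ▷ E ≫ (r n).hom = p n)
    (h1 : ∀ φ ψ : 𝟙_ C ⟶ E, (∀ n, φ ≫ p n = ψ ≫ p n) → φ = ψ)
    (h2 : ∀ θ : ∀ n, 𝟙_ C ⟶ G n, (∀ n, θ (n + 1) ≫ g n = θ n) → ∃ φ : 𝟙_ C ⟶ E, ∀ n, φ ≫ p n = θ n) :
    (∀ φ ψ : E' ⟶ 𝟙_ C, (∀ n, φ ≫ ρ n = ψ ≫ ρ n) → φ = ψ) ∧
      ∀ y : ∀ n, E' ⟶ Q n, (∀ n, y (n + 1) ≫ q n = y n) → ∃ φ : E' ⟶ 𝟙_ C, ∀ n, φ ≫ ρ n = y n := by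
  let α : ∀ Z : C, (E' ⟶ Z) ≃ (𝟙_ C ⟶ Z ⊗ E) := fun Z =>
    ((λ_ E').homCongr (Iso.refl Z)).symm.trans (tensorRightHomEquiv (𝟙_ C) E' E Z)
  have hα : ∀ {Z Z' : C} (f : E' ⟶ Z) (g : Z ⟶ Z'), α Z' (f ≫ g) = α Z f ≫ g ▷ E := by
    intro Z Z' f g
    change tensorRightHomEquiv (𝟙_ C) E' E Z' ((λ_ E').hom ≫ (f ≫ g) ≫ 𝟙 _) =
      tensorRightHomEquiv (𝟙_ C) E' E Z ((λ_ E').hom ≫ f ≫ 𝟙 _) ≫ g ▷ E
    rw [← tensorRightHomEquiv_naturality]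
    simp
  have hr' : ∀ n, (ρ n) ▷ E = l.inv ≫ p n ≫ (r n).inv := fun n => by
    rw [← hr n]
    simp
  have hq' : ∀ n, (q n) ▷ E ≫ (r n).hom = (r (n + 1)).hom ≫ g n := fun n => by
    have h5 : (ρ (n + 1)) ▷ E ≫ (q n) ▷ E = (ρ n) ▷ E := by
      rw [← comp_whiskerRight, hq]
    rw [hr', hr', Category.assoc, Category.assoc, cancel_epi, ← hp n, Category.assoc, cancel_epi,
      Iso.inv_comp_eq] at h5
    rw [h5]
    simp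
  refine ⟨fun φ ψ hφ => ?_, fun y hy => ?_⟩
  · have h3 : α _ φ ≫ l.inv = α _ ψ ≫ l.inv := by
      refine h1 _ _ fun n => ?_
      have h4 := congrArg (α _) (hφ n)
      rw [hα, hα, hr' n] at h4
      simpa only [Category.assoc, Iso.inv_hom_id, Category.comp_id] using congrArg (fun z => z ≫ (r n).hom) h4
    exact (α _).injective ((cancel_mono _).1 h3)
  · obtain ⟨φ', hφ'⟩ := h2 (fun n => α _ (y n) ≫ (r n).hom) fun n => by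
      rw [Category.assoc, ← hq' n, ← Category.assoc, ← hα, hy n]
    refine ⟨(α _).symm (φ' ≫ l.hom), fun n => (α _).injective ?_⟩
    rw [hα, Equiv.apply_symm_apply, hr' n]
    simp only [Category.assoc, Iso.hom_inv_id_assoc]
    rw [← Category.assoc, hφ' n]
    simp

end Cat

open Groth.Agent.Dcoh.Restrict

variable {U : Scheme.{u}}

theorem sec_inj {E : U.Modules} {G : ℕ → U.Modules} (p : ∀ n, E ⟶ G n)
    (h1 : ∀ σ : Γ(E, ⊤), (∀ n : ℕ, (p n).app ⊤ σ = 0) → σ = 0)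
    (φ ψ : Coh.structureModule U ⟶ E) (hφ : ∀ n, φ ≫ p n = ψ ≫ p n) : φ = ψ := by
  apply (unitEquiv E).injective
  rw [← sub_eq_zero]
  refine h1 _ fun n => ?_
  rw [map_sub, ← unitEquiv_comp, ← unitEquiv_comp, hφ n, sub_self]

theorem sec_surj {E : U.Modules} {G : ℕ → U.Modules} (p : ∀ n, E ⟶ G n) (g : ∀ n, G (n + 1) ⟶ G n)
    (h2 : ∀ y : (∀ n : ℕ, Γ(G n, ⊤)), (∀ n : ℕ, (g n).app ⊤ (y (n + 1)) = y n) →
        ∃ σ : Γ(E, ⊤), ∀ n : ℕ, (p n).app ⊤ σ = y n)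
    (θ : ∀ n, Coh.structureModule U ⟶ G n) (hθ : ∀ n, θ (n + 1) ≫ g n = θ n) :
    ∃ φ : Coh.structureModule U ⟶ E, ∀ n, φ ≫ p n = θ n := by
  obtain ⟨σ, hσ⟩ := h2 (fun n => unitEquiv _ (θ n)) (fun n => by rw [← unitEquiv_comp, hθ n])
  refine ⟨(unitEquiv E).symm σ, fun n => (unitEquiv _).injective ?_⟩
  rw [unitEquiv_comp, AddEquiv.apply_symm_apply, hσ n]

/-- `Hom(D, O) = lim Hom(D, O/𝓙^{n+1})` from `Γ(E) = lim Γ(E/𝓙^{n+1}E)`, `E` dual to `D`. -/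
theorem homToFormalBijective (𝓙 : U.IdealSheafData) {D E : U.Modules} [ExactPairing D E]
    (hE : Coh.IsQCoh E) (G : ℕ → U.Modules) (p : ∀ n, E ⟶ G n) (g : ∀ n, G (n + 1) ⟶ G n)
    (hp : ∀ n, p (n + 1) ≫ g n = p n) (hK : ∀ n, IsKQuot (𝓙 ^ (n + 1)) (p n))
    (h1 : ∀ σ : Γ(E, ⊤), (∀ n : ℕ, (p n).app ⊤ σ = 0) → σ = 0)
    (h2 : ∀ y : (∀ n : ℕ, Γ(G n, ⊤)), (∀ n : ℕ, (g n).app ⊤ (y (n + 1)) = y n) →
        ∃ σ : Γ(E, ⊤), ∀ n : ℕ, (p n).app ⊤ σ = y n) :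
    Lef.HomToFormalBijective 𝓙 D := by
  choose r hr using fun n => (K106.HomLim.isRed_of_isKQuot hE (hK n)).exists_iso
  obtain ⟨h3, h4⟩ := cat_dual (C := U.Modules) (E := E) (E' := D) (fun n => ClSub.quotMod (𝓙 ^ (n + 1)))
    (fun n => ClSub.toSubscheme (𝓙 ^ (n + 1))) (fun n => Lef.quotMap (Lef.pow_succ_le 𝓙 n))
    (fun n => Sga2.LefRes389.toSubscheme_quotMap _) G g p hp
    (fun n => (hK n).epi) (lunit E).symm r hr (sec_inj p h1) (sec_surj p g h2)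
  exact ⟨h3, h4⟩

end K156.SecHom
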